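import Cfsg.Agent.BpSpor.RowAll
import Cfsg.Agent.KFacts.MonsterM
import Cfsg.Agent.MonsterX.InstanceFinal_m3
import Cfsg.Agent.H850.MonSub
import Cfsg.Agent.Prune
set_option linter.all false

-- part: BpSpor/Inn/M
section
set_option linter.all false

/-!
# Automorphisms of odd prime order: `M` (helper5)
-/

set_option autoImplicit false

namespace Cfsg.Agent.BpSpor.Inn

open Cfsg

open Cfsg.Spor (Co1)
open Cfsg.Agent.MonsterX Cfsg.Agent.MonsterX.Model Cfsg.Agent.MonsterX.MainSimple Cfsg.Agent.MonsterX.MainBasic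

theorem m_model {W : Type} [AddCommGroup W] [Module ℚ W] {M : MData W} (hG : MGroup M Co1) (hR : MRep M)
    (hL : MLat M) (hO : MOrbit M) (hT : MTrans M) : OddInn M.G := by
  have hfin := G_finite hO
  have hco := Cfsg.Agent.KFacts.MonsterE.simple_Co1
  obtain ⟨π, D⟩ := Cfsg.Agent.KFacts.MonsterE.data_model hG hR hL hO hT
  exact of_inner D.inner

theorem m {K : Type*} [Group K] (h : Spor.IsoM K) : OddInn K := by
  obtain ⟨e⟩ := h
  obtain ⟨f⟩ := Cfsg.Agent.MonsterP.Equiv.equiv
  exact OddInn.congr (e.trans f) (m_model Instance.mGroup Instance.mRep Instance.mLat InstanceFinal.mOrbit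
    Instance.mTrans)

end Cfsg.Agent.BpSpor.Inn
end

-- part: BpSpor/Row/M
section
set_option linter.all false
open scoped Cfsg.Agent.FastGrp

/-!
# S1332, the row `M` for all odd primes, from the primes whose square divides the order (helper5)
-/

set_option autoImplicit false

namespace Cfsg.Agent.BpSpor.Row

open Cfsg Cfsg.Agent.BpTab

universe u

theorem dat_m {K : Type u} [Group K] (h : Spor.IsoM K) : Dat K 808017424794512875886459904961710757005754368000000000 where
  simple := by
    obtain ⟨e⟩ := h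
    exact (MulEquiv.isSimpleGroup_congr e).2 Cfsg.Agent.MonsterP.Equiv.isM.1
  card := by
    obtain ⟨e⟩ := h
    rw [Nat.card_congr e.toEquiv, Cfsg.Agent.MonsterP.Equiv.isM.2]
  inn := Inn.m h

theorem m_of {K : Type u} [Group K] (h : Spor.IsoM K) (h3 : BpS 3 K) (h5 : BpS 5 K) (h7 : BpS 7 K) (h11 : BpS 11 K) (h13 : BpS 13 K) {p : ℕ} (hp : p.Prime)
    (hp2 : p ≠ 2) : BpS p K := by
  refine (dat_m h).bps (l := [(2, 46), (3, 20), (5, 9), (7, 6), (11, 2), (13, 3), (17, 1), (19, 1), (23, 1), (29, 1), (31, 1), (41, 1), (47, 1), (59, 1), (71, 1)]) (by decide +kernel)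
    (by norm_num) (fun x hx hx2 hx3 => ?_) hp hp2
  simp only [List.mem_cons, List.not_mem_nil, or_false] at hx
  rcases hx with rfl | rfl | rfl | rfl | rfl | rfl | rfl | rfl | rfl | rfl | rfl | rfl | rfl | rfl | rfl
  · exact absurd rfl hx3
  · exact h3
  · exact h5
  · exact h7
  · exact h11
  · exact h13
  · exact absurd hx2 (by norm_num)
  · exact absurd hx2 (by norm_num)
  · exact absurd hx2 (by norm_num)
  · exact absurd hx2 (by norm_num)
  · exact absurd hx2 (by norm_num)
  · exact absurd hx2 (by norm_num)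
  · exact absurd hx2 (by norm_num)
  · exact absurd hx2 (by norm_num)
  · exact absurd hx2 (by norm_num)

end Cfsg.Agent.BpSpor.Row
end
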