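import Cfsg.Agent.BpSpor.RowAll
import Cfsg.Agent.ConwayFacts.AutCo1
import Cfsg.Agent.S0399
import Cfsg.Agent.Prune
set_option linter.all false
prune_inst 0x7f00000000000000000000000000000000000000000000000000000000000000000000000000000000000000000000000000000000000000000000000000000000000000000000000000000000000000003fffffffffffffffffffffffffffbeffbdffffffff
open scoped Cfsg.Agent.FastGrp

-- merged: Cfsg.Agent.BpSpor.Inn.Co1
section

/-!
# Automorphisms of odd prime order: `Co1` (helper5)
-/

set_option autoImplicit false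

namespace Cfsg.Agent.BpSpor.Inn

open Cfsg

theorem co1 {K : Type*} [Group K] (h : Spor.IsoCo1 K) : OddInn K := by
  obtain ⟨e⟩ := h
  refine OddInn.congr e (of_inner fun α => ?_)
  obtain ⟨s, hs⟩ := Cfsg.Agent.ConwayFacts.AutCo1.inner α
  exact ⟨s, MulEquiv.ext fun g => by rw [hs, MulAut.conj_apply]⟩

end Cfsg.Agent.BpSpor.Inn

end

-- merged: Cfsg.Agent.BpSpor.Row.Co1
section

/-!
# S1332, the row `Co1` for all odd primes, from the primes whose square divides the order (helper5)
-/

set_option autoImplicit false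

namespace Cfsg.Agent.BpSpor.Row

open Cfsg Cfsg.Agent.BpTab

universe u

theorem dat_co1 {K : Type u} [Group K] (h : Spor.IsoCo1 K) : Dat K 4157776806543360000 where
  simple := by
    obtain ⟨e⟩ := h
    exact (MulEquiv.isSimpleGroup_congr e).2 Cfsg.Agent.S0399.result.1
  card := by
    obtain ⟨e⟩ := h
    rw [Nat.card_congr e.toEquiv, Cfsg.Agent.S0399.result.2]
  inn := Inn.co1 h

theorem co1_of {K : Type u} [Group K] (h : Spor.IsoCo1 K) (h3 : BpS 3 K) (h5 : BpS 5 K) (h7 : BpS 7 K) {p : ℕ} (hp : p.Prime)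
    (hp2 : p ≠ 2) : BpS p K := by
  refine (dat_co1 h).bps (l := [(2, 21), (3, 9), (5, 4), (7, 2), (11, 1), (13, 1), (23, 1)]) (by decide +kernel)
    (by norm_num) (fun x hx hx2 hx3 => ?_) hp hp2
  simp only [List.mem_cons, List.not_mem_nil, or_false] at hx
  rcases hx with rfl | rfl | rfl | rfl | rfl | rfl | rfl
  · exact absurd rfl hx3
  · exact h3
  · exact h5
  · exact h7
  · exact absurd hx2 (by norm_num)
  · exact absurd hx2 (by norm_num)
  · exact absurd hx2 (by norm_num)

end Cfsg.Agent.BpSpor.Row

end
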