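import Cfsg.Agent.BpSpor.RowAll
import Cfsg.Agent.KFacts.FiTF.FrameF
import Cfsg.Agent.S1698
import Cfsg.Agent.Prune
set_option linter.all false

-- part: BpSpor/Inn/Fi24
section
set_option linter.all false

/-!
# Automorphisms of odd prime order: `Fi24` (helper5)
-/

set_option autoImplicit false

namespace Cfsg.Agent.BpSpor.Inn

open Cfsg

theorem fi24 {K : Type*} [Group K] (h : Spor.IsoFi24' K) : OddInn K := by
  obtain ⟨e⟩ := h
  exact OddInn.congr e (of_dvd_two Cfsg.Agent.KFacts.FiTF.out)

end Cfsg.Agent.BpSpor.Inn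
end

-- part: BpSpor/Row/Fi24
section
set_option linter.all false
open scoped Cfsg.Agent.FastGrp

/-!
# S1332, the row `Fi24` for all odd primes, from the primes whose square divides the order (helper5)
-/

set_option autoImplicit false

namespace Cfsg.Agent.BpSpor.Row

open Cfsg Cfsg.Agent.BpTab

universe u

theorem dat_fi24 {K : Type u} [Group K] (h : Spor.IsoFi24' K) : Dat K 1255205709190661721292800 where
  simple := by
    obtain ⟨e⟩ := h
    exact (MulEquiv.isSimpleGroup_congr e).2 Cfsg.Agent.S1698.result.1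
  card := by
    obtain ⟨e⟩ := h
    rw [Nat.card_congr e.toEquiv, Cfsg.Agent.S1698.result.2]
  inn := Inn.fi24 h

theorem fi24_of {K : Type u} [Group K] (h : Spor.IsoFi24' K) (h3 : BpS 3 K) (h5 : BpS 5 K) (h7 : BpS 7 K) {p : ℕ} (hp : p.Prime)
    (hp2 : p ≠ 2) : BpS p K := by
  refine (dat_fi24 h).bps (l := [(2, 21), (3, 16), (5, 2), (7, 3), (11, 1), (13, 1), (17, 1), (23, 1), (29, 1)]) (by decide +kernel)
    (by norm_num) (fun x hx hx2 hx3 => ?_) hp hp2
  simp only [List.mem_cons, List.not_mem_nil, or_false] at hx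
  rcases hx with rfl | rfl | rfl | rfl | rfl | rfl | rfl | rfl | rfl
  · exact absurd rfl hx3
  · exact h3
  · exact h5
  · exact h7
  · exact absurd hx2 (by norm_num)
  · exact absurd hx2 (by norm_num)
  · exact absurd hx2 (by norm_num)
  · exact absurd hx2 (by norm_num)
  · exact absurd hx2 (by norm_num)

end Cfsg.Agent.BpSpor.Row
end
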