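import Cfsg.Agent.BpSpor.RowAll
import Cfsg.Agent.HN.AutHS
import Cfsg.Agent.KFacts.HS.Base
import Cfsg.Agent.FastGrp
import Cfsg.Agent.Prune
set_option linter.all false
prune_inst 0x7f00000000000000000000000000000000000000000000000000000000000000000000000000000000000000000000000000000000000000000000000000000000000000000000000000000000000000003fffffffffffffffffffffffffffbeffbdffffffff
open scoped Cfsg.Agent.FastGrp

-- merged: Cfsg.Agent.BpSpor.Inn.HS
section

/-!
# Automorphisms of odd prime order: `HS` (helper5)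
-/

set_option autoImplicit false

namespace Cfsg.Agent.BpSpor.Inn

open Cfsg

open Cfsg.Agent.SporadicA.PermTab Cfsg.Agent.HN.HS100 Cfsg.Agent.HN.AutBound Cfsg.Agent.HN.AutHS Equiv

theorem hs_Q : OddInn Q := by
  refine of_pow fun α => ?_
  obtain ⟨p, hp, h⟩ := exists_perm α
  have hpp : p * p ∈ Q := mem_Q_iff.2 ⟨mul_mem hp hp, by rw [map_mul, Int.units_mul_self]⟩
  refine ⟨⟨p * p, hpp⟩, ?_⟩
  ext1 x
  apply Subtype.ext
  show p * p * (x : Perm (Fin 100)) * (p * p)⁻¹ = (((α ^ 2) x : Q) : Perm (Fin 100))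
  rw [pow_two, MulAut.mul_apply, h, h]
  group

theorem hs {K : Type*} [Group K] (h : Spor.IsoHS K) : OddInn K := by
  obtain ⟨e⟩ := h
  obtain ⟨f⟩ := nonempty_Q.1
  exact OddInn.congr (e.trans f.symm) hs_Q

end Cfsg.Agent.BpSpor.Inn

end

-- merged: Cfsg.Agent.BpSpor.Row.HS
section

/-!
# S1332, the row `HS` for all odd primes, from the primes whose square divides the order (helper5)
-/

set_option autoImplicit false

namespace Cfsg.Agent.BpSpor.Row

open Cfsg Cfsg.Agent.BpTab

universe u

theorem dat_hs {K : Type u} [Group K] (h : Spor.IsoHS K) : Dat K 44352000 where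
  simple := by
    obtain ⟨⟨f⟩, h1⟩ := Cfsg.Agent.HN.AutHS.nonempty_Q
    obtain ⟨e⟩ := h
    have hn : Nontrivial K := (f.trans e.symm).symm.toEquiv.nontrivial
    exact IsSimpleGroup.isSimpleGroup_of_surjective (f.trans e.symm).toMonoidHom (f.trans e.symm).surjective
  card := Cfsg.Agent.KFacts.HS.card h
  inn := Inn.hs h

theorem hs_of {K : Type u} [Group K] (h : Spor.IsoHS K) (h3 : BpS 3 K) (h5 : BpS 5 K) {p : ℕ} (hp : p.Prime)
    (hp2 : p ≠ 2) : BpS p K := by
  refine (dat_hs h).bps (l := [(2, 9), (3, 2), (5, 3), (7, 1), (11, 1)]) (by decide +kernel)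
    (by norm_num) (fun x hx hx2 hx3 => ?_) hp hp2
  simp only [List.mem_cons, List.not_mem_nil, or_false] at hx
  rcases hx with rfl | rfl | rfl | rfl | rfl
  · exact absurd rfl hx3
  · exact h3
  · exact h5
  · exact absurd hx2 (by norm_num)
  · exact absurd hx2 (by norm_num)

end Cfsg.Agent.BpSpor.Row

end
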