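import Cfsg.Agent.BpSpor.RowAll
import Cfsg.Agent.OddHalf.Table.OutJ2
import Cfsg.Agent.S1619
import Cfsg.Agent.S1620
import Cfsg.Agent.Prune
set_option linter.all false
prune_inst 0x7f00000000000000000000000000000000000000000000000000000000000000000000000000000000000000000000000000000000000000000000000000000000000000000000000000000000000000003fffffffffffffffffffffffffffbeffbdffffffff
open scoped Cfsg.Agent.FastGrp

-- merged: Cfsg.Agent.BpSpor.Inn.J2
section

/-!
# Automorphisms of odd prime order: `J2` (helper5)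
-/

set_option autoImplicit false

namespace Cfsg.Agent.BpSpor.Inn

open Cfsg

open Equiv Cfsg.Agent.OddHalf.Table Cfsg.Agent.OddHalf.Table.OutJ2 Cfsg.Agent.SporadicA.PermTab
open Cfsg.Agent.SporadicA.J2Data Cfsg.Agent.SporadicA.J2Hundred

theorem hundred : OddInn G := by
  apply of_mul_inv
  intro a b ha hb
  refine CycNorm.mul_inv_inner_of (X := G) (p := 7) (m := 3) (N := 3) (by norm_num) (x := ⟨x, x_mem⟩)
    (f := ⟨f, f_mem⟩) (y := ⟨y, y_mem⟩) ?_ ?_ ?_ ?_ (by decide) (by decide) ?_ ?_ ?_ ?_ ?_ closure_eq ha hb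
  · rw [Subgroup.orderOf_mk]; exact order_x
  · rw [card_G]; norm_num
  · rintro ⟨c, hc⟩ h
    obtain ⟨i, hi⟩ := cent_x hc (congrArg Subtype.val h)
    exact ⟨i, Subtype.ext hi⟩
  · exact Subtype.ext fx
  · rw [Subgroup.orderOf_mk]; exact order_f
  · exact Subtype.ext y2
  · exact Subtype.ext yf
  · intro i h
    exact y_ne_pow i (congrArg Subtype.val h)
  · rintro ⟨c, hc⟩ h
    obtain ⟨i, hi | hi⟩ := cent_f hc (congrArg Subtype.val h)
    · exact ⟨i, Or.inl (Subtype.ext hi)⟩
    · exact ⟨i, Or.inr (Subtype.ext hi)⟩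

theorem j2 {K : Type*} [Group K] (h : Spor.IsoJ2 K) : OddInn K := by
  obtain ⟨e⟩ := h
  obtain ⟨f⟩ := Cfsg.Agent.J2.HundredGens.J2_iso Cfsg.Agent.S1619.result.2.2.2
  exact OddInn.congr (e.trans f) hundred

end Cfsg.Agent.BpSpor.Inn

end

-- merged: Cfsg.Agent.BpSpor.Row.J2
section

/-!
# S1332, the row `J2` for all odd primes, from the primes whose square divides the order (helper5)
-/

set_option autoImplicit false

namespace Cfsg.Agent.BpSpor.Row

open Cfsg Cfsg.Agent.BpTab

universe u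

theorem dat_j2 {K : Type u} [Group K] (h : Spor.IsoJ2 K) : Dat K 604800 where
  simple := by
    obtain ⟨e⟩ := h
    exact (MulEquiv.isSimpleGroup_congr e).2 Cfsg.Agent.S1620.result.1
  card := by
    obtain ⟨e⟩ := h
    rw [Nat.card_congr e.toEquiv, Cfsg.Agent.S1619.result.2.2.2]
  inn := Inn.j2 h

theorem j2_of {K : Type u} [Group K] (h : Spor.IsoJ2 K) (h3 : BpS 3 K) (h5 : BpS 5 K) {p : ℕ} (hp : p.Prime)
    (hp2 : p ≠ 2) : BpS p K := by
  refine (dat_j2 h).bps (l := [(2, 7), (3, 3), (5, 2), (7, 1)]) (by decide +kernel)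
    (by norm_num) (fun x hx hx2 hx3 => ?_) hp hp2
  simp only [List.mem_cons, List.not_mem_nil, or_false] at hx
  rcases hx with rfl | rfl | rfl | rfl
  · exact absurd rfl hx3
  · exact h3
  · exact h5
  · exact absurd hx2 (by norm_num)

end Cfsg.Agent.BpSpor.Row

end
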